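import Groth.Prelude.Def_ClSub2
import Groth.Agent.Lib.RedSub.Basic
import Groth.Agent.Lib.Thickening.Morphisms
import Mathlib.AlgebraicGeometry.Morphisms.Proper

/-!
# Subsets proper over a base
-/

universe u

open CategoryTheory CategoryTheory.Limits AlgebraicGeometry TopologicalSpace

namespace GrothLib.ProperOver

variable {S X W : Scheme.{u}}

/-- A separatedness test along a finite family of jointly surjective universally closed maps. -/
theorem isSeparated_of_family {ι : Type*} [Finite ι] {T : ι → Scheme.{u}} (σ : ∀ i, T i ⟶ W)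
    [∀ i, UniversallyClosed (σ i)] (hσ : ∀ w : W, ∃ i, w ∈ Set.range (σ i)) (f : W ⟶ S)
    [∀ i, IsSeparated (σ i ≫ f)] : IsSeparated f := by
  refine ⟨IsClosedImmersion.of_isPreimmersion _ ?_⟩
  have e : Set.range (pullback.diagonal f) = ⋃ i, Set.range (σ i ≫ pullback.diagonal f) := by
    ext z
    simp only [Set.mem_iUnion, Set.mem_range, Scheme.Hom.comp_apply]
    constructor
    · rintro ⟨w, rfl⟩
      obtain ⟨i, t, rfl⟩ := hσ w
      exact ⟨i, t, rfl⟩
    · rintro ⟨i, t, rfl⟩
      exact ⟨_, rfl⟩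
  rw [e]
  refine isClosed_iUnion_of_finite fun i ↦ ?_
  rw [GrothLib.Thickening.diagonal_comp (σ i) f]
  have : UniversallyClosed (pullback.map (σ i ≫ f) (σ i ≫ f) f f (σ i) (σ i) (𝟙 S) (by simp)
      (by simp)) :=
    MorphismProperty.pullbackMap (P := @UniversallyClosed) inferInstance inferInstance rfl rfl
  exact (Scheme.Hom.isClosedMap _).isClosed_range

/-- A universal closedness test along a finite jointly surjective family. -/
theorem universallyClosed_of_family {ι : Type*} [Finite ι] {T : ι → Scheme.{u}} (σ : ∀ i, T i ⟶ W)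
    (hσ : ∀ w : W, ∃ i, w ∈ Set.range (σ i)) (f : W ⟶ S)
    [∀ i, UniversallyClosed (σ i ≫ f)] : UniversallyClosed f := by
  constructor
  intro X' Y' i₁ i₂ f' H
  have h := fun i ↦ UniversallyClosed.universally_isClosedMap (f := σ i ≫ f) _ _ _
    ((IsPullback.of_hasPullback i₁ (σ i)).paste_horiz H)
  intro C hC
  have : f' '' C = ⋃ i, (pullback.fst i₁ (σ i) ≫ f') '' ((pullback.fst i₁ (σ i)) ⁻¹' C) := by
    ext z
    simp only [Set.mem_iUnion, Set.mem_image, Set.mem_preimage, Scheme.Hom.comp_apply]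
    constructor
    · rintro ⟨c, hc, rfl⟩
      obtain ⟨i, hi⟩ := hσ (i₁ c)
      have : c ∈ Set.range (pullback.fst i₁ (σ i)) := by rw [Scheme.Pullback.range_fst]; exact hi
      obtain ⟨t, rfl⟩ := this
      exact ⟨i, t, hc, rfl⟩
    · rintro ⟨i, t, ht, rfl⟩
      exact ⟨_, ht, rfl⟩
  rw [this]
  exact isClosed_iUnion_of_finite fun i ↦ h i _ (hC.preimage (pullback.fst i₁ (σ i)).continuous)

/-- Properness along a finite jointly surjective family of universally closed maps. -/
theorem isProper_of_family {ι : Type*} [Finite ι] {T : ι → Scheme.{u}} (σ : ∀ i, T i ⟶ W)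
    [∀ i, UniversallyClosed (σ i)] (hσ : ∀ w : W, ∃ i, w ∈ Set.range (σ i)) (f : W ⟶ S)
    [LocallyOfFiniteType f] (h : ∀ i, IsProper (σ i ≫ f)) : IsProper f := by
  have := isSeparated_of_family σ hσ f
  have := universallyClosed_of_family σ hσ f
  exact {}

theorem isProper_of_surjective {T : Scheme.{u}} (σ : T ⟶ W) [UniversallyClosed σ] [Surjective σ]
    (f : W ⟶ S) [LocallyOfFiniteType f] [IsProper (σ ≫ f)] : IsProper f :=
  isProper_of_family (ι := Unit) (fun _ ↦ σ) (fun w ↦ ⟨(), σ.surjective w⟩) f fun _ ↦ ‹_›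

variable (f : X ⟶ S)

/-- The reduced subscheme on a closed set. -/
noncomputable abbrev redι (Z : Set X) (hZ : IsClosed Z) :
    (Scheme.IdealSheafData.vanishingIdeal ⟨Z, hZ⟩).subscheme ⟶ X :=
  (Scheme.IdealSheafData.vanishingIdeal ⟨Z, hZ⟩).subschemeι

theorem range_redι (Z : Set X) (hZ : IsClosed Z) : Set.range (redι Z hZ) = Z :=
  RedSub.range_subschemeι_vanishingIdeal ⟨Z, hZ⟩

theorem exists_lift_redι {Z : Set X} (hZ : IsClosed Z) {T : Scheme.{u}} (g : T ⟶ X) [IsReduced T]
    (h : Set.range g ⊆ Z) : ∃ σ : T ⟶ _, σ ≫ redι Z hZ = g :=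
  RedSub.exists_lift g _ (h.trans (range_redι Z hZ).ge)

/-- A closed subset covered by the images of finitely many reduced proper schemes, closedly. -/
theorem isProperOver_of_family [LocallyOfFiniteType f] {Z : Set X} (hZ : IsClosed Z) {ι : Type*}
    [Finite ι] {T : ι → Scheme.{u}} (g : ∀ i, T i ⟶ X) [∀ i, UniversallyClosed (g i)]
    [∀ i, IsReduced (T i)] (hg : Z = ⋃ i, Set.range (g i)) (h : ∀ i, IsProper (g i ≫ f)) :
    ClSub.IsProperOver f Z := by
  refine ⟨hZ, ?_⟩
  choose σ hσ using fun i ↦ exists_lift_redι hZ (g i) (hg ▸ Set.subset_iUnion (fun i ↦ Set.range (g i)) i)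
  have : ∀ i, UniversallyClosed (σ i) := fun i ↦ by
    have : UniversallyClosed (σ i ≫ redι Z hZ) := by rw [hσ]; infer_instance
    exact UniversallyClosed.of_comp_of_isSeparated (σ i) (redι Z hZ)
  refine isProper_of_family σ (fun w ↦ ?_) _ fun i ↦ ?_
  · have hw : redι Z hZ w ∈ ⋃ i, Set.range (g i) := hg ▸ (range_redι Z hZ).le ⟨w, rfl⟩
    obtain ⟨i, t, ht⟩ := Set.mem_iUnion.1 hw
    refine ⟨i, t, (redι Z hZ).isClosedEmbedding.injective ?_⟩
    rw [← Scheme.Hom.comp_apply, hσ, ht]
  · rw [← Category.assoc, hσ]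
    exact h i

theorem isReduced_red (Z : Set X) (hZ : IsClosed Z) :
    IsReduced (Scheme.IdealSheafData.vanishingIdeal ⟨Z, hZ⟩).subscheme :=
  RedSub.isReduced_subscheme_vanishingIdeal ⟨Z, hZ⟩

/-- A proper closed subscheme contains only subsets proper over the base. -/
theorem isProperOver_of_closedImmersion {T : Scheme.{u}} (i : T ⟶ X) [IsClosedImmersion i]
    [IsProper (i ≫ f)] {Z : Set X} (hZ : IsClosed Z) (h : Z ⊆ Set.range i) :
    ClSub.IsProperOver f Z := by
  have := isReduced_red Z hZ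
  obtain ⟨σ, hσ⟩ := RedSub.exists_lift (redι Z hZ) i ((range_redι Z hZ).le.trans h)
  have : IsClosedImmersion (σ ≫ i) := by rw [hσ]; infer_instance
  have : IsClosedImmersion σ := IsClosedImmersion.of_comp σ i
  refine ⟨hZ, ?_⟩
  change IsProper (redι Z hZ ≫ f)
  rw [← hσ, Category.assoc]
  infer_instance

theorem IsProperOver.subset {Z Z' : Set X} (h : ClSub.IsProperOver f Z) (hZ' : IsClosed Z')
    (hle : Z' ⊆ Z) : ClSub.IsProperOver f Z' := by
  obtain ⟨hZ, hp⟩ := h
  have : IsProper (redι Z hZ ≫ f) := hp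
  exact isProperOver_of_closedImmersion f (redι Z hZ) hZ' (hle.trans (range_redι Z hZ).ge)

/-- Every closed subscheme with proper support is proper. -/
theorem isProper_of_isProperOver [LocallyOfFiniteType f] {T : Scheme.{u}} (i : T ⟶ X)
    [IsClosedImmersion i] (h : ClSub.IsProperOver f (Set.range i)) : IsProper (i ≫ f) := by
  obtain ⟨hZ, hp⟩ := h
  have : IsProper (redι _ hZ ≫ f) := hp
  have := isReduced_red _ hZ
  obtain ⟨σ, hσ⟩ := RedSub.exists_lift (redι _ hZ) i (range_redι _ hZ).le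
  have : IsClosedImmersion (σ ≫ i) := by rw [hσ]; infer_instance
  have : IsClosedImmersion σ := IsClosedImmersion.of_comp σ i
  have : Surjective σ := ⟨fun t ↦ by
    obtain ⟨w, hw⟩ := (range_redι _ hZ).ge ⟨t, rfl⟩
    refine ⟨w, i.isClosedEmbedding.injective ?_⟩
    rw [← Scheme.Hom.comp_apply, hσ, hw]⟩
  have : IsProper (σ ≫ i ≫ f) := by rw [← Category.assoc, hσ]; infer_instance
  exact isProper_of_surjective σ (i ≫ f)

/-- Finite unions. -/
theorem isProperOver_iUnion [LocallyOfFiniteType f] {ι : Type*} [Finite ι] (Z : ι → Set X)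
    (h : ∀ i, ClSub.IsProperOver f (Z i)) : ClSub.IsProperOver f (⋃ i, Z i) := by
  have := fun i ↦ isReduced_red (Z i) (h i).1
  refine isProperOver_of_family f (isClosed_iUnion_of_finite fun i ↦ (h i).1)
    (fun i ↦ redι (Z i) (h i).1) ?_ fun i ↦ (h i).2
  simp only [range_redι]

/-- Images under morphisms over the base that are universally closed on `Z`. -/
theorem isProperOver_image {Y : Scheme.{u}} (q : Y ⟶ S) [LocallyOfFiniteType q] (g : X ⟶ Y)
    (w : g ≫ q = f) {Z : Set X} (h : ClSub.IsProperOver f Z)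
    (hu : ∀ hZ : IsClosed Z, UniversallyClosed (redι Z hZ ≫ g)) :
    ClSub.IsProperOver q (g '' Z) := by
  obtain ⟨hZ, hp⟩ := h
  have := hu hZ
  have := isReduced_red Z hZ
  have hr : g '' Z = Set.range (redι Z hZ ≫ g) := by
    rw [Scheme.Hom.comp_base, TopCat.coe_comp, Set.range_comp, range_redι]
  refine isProperOver_of_family (ι := Unit) q (hr ▸ (Scheme.Hom.isClosedMap _).isClosed_range)
    (fun _ ↦ redι Z hZ ≫ g) (hr.trans (Set.iUnion_const _).symm) fun _ ↦ ?_
  rw [Category.assoc, w]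
  exact hp

/-- Preimages along base change. -/
theorem isProperOver_preimage_of_isPullback {X' S' : Scheme.{u}} (g : S' ⟶ S) (g' : X' ⟶ X)
    (f' : X' ⟶ S') (sq : IsPullback g' f' f g) {Z : Set X} (h : ClSub.IsProperOver f Z) :
    ClSub.IsProperOver f' (g' ⁻¹' Z) := by
  obtain ⟨hZ, hp⟩ := h
  have : IsClosedImmersion (pullback.fst g' (redι Z hZ)) := inferInstance
  have : IsProper (pullback.fst g' (redι Z hZ) ≫ f') :=
    MorphismProperty.of_isPullback (P := @IsProper)
      ((IsPullback.of_hasPullback g' (redι Z hZ)).flip.paste_vert sq) hp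
  exact isProperOver_of_closedImmersion f' (pullback.fst g' (redι Z hZ))
    (hZ.preimage g'.continuous) (by rw [Scheme.Pullback.range_fst, range_redι])

/-- Preimages under proper morphisms. -/
theorem isProperOver_preimage {Y : Scheme.{u}} (q : Y ⟶ S) (g : X ⟶ Y) [IsProper g]
    (w : g ≫ q = f) {Z : Set Y} (h : ClSub.IsProperOver q Z) :
    ClSub.IsProperOver f (g ⁻¹' Z) := by
  obtain ⟨hZ, hp⟩ := h
  have : IsProper (redι Z hZ ≫ q) := hp
  have : IsProper (pullback.fst g (redι Z hZ) ≫ f) := by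
    rw [← w, ← Category.assoc, pullback.condition, Category.assoc]
    infer_instance
  exact isProperOver_of_closedImmersion f (pullback.fst g (redι Z hZ))
    (hZ.preimage g.continuous) (by rw [Scheme.Pullback.range_fst, range_redι])

end GrothLib.ProperOver
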